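-- Certificate data for MWD5; generated by a coset enumerator, checked by the kernel.
import Cfsg.Agent.Lib.Compute.TCFast
import Cfsg.Agent.Lib.Fischer.M23.Mult.Words
set_option autoImplicit false
set_option maxRecDepth 1000000

open Cfsg.Agent.Lib.Compute.ToddCoxeterCore Cfsg.Agent.Lib.Compute.ToddCoxeterPresented Cfsg.Agent.Lib.Compute.TCFast

namespace Cfsg.Agent.Lib.Compute.TC.MWD5

/-- the packed entries -/
noncomputable def tE : TT := .leaf (nat_lit 0xffffff000000000400000e300004c00000e0000000069200004f00000f000000005d200004e00000f0000000041200005000000f0000000021200004d00000f00000000000ffffff0000000000000000100004b00000f0000000038200004800000e000000002c200004a00000e000100000d300004700000d0000000005200004900000e00000000000ffffff000000000000005c200004400000d0000000050200004500000d000200000b300004100000b0000000000100004600000e0000000011200004200000c00000000000ffffff000000000000005c200003d00000c0000000050200003f00000c000200000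9300003c000009000000002d200003e00000c000000000d300004300000d00000000000ffffff0000000000000020200003900000b0000000018200003700000a0000000000100004000000d0000000004200003a00000b0000000009300003600000900000000000ffffff0000000000000020200003300000a000300000b300003800000b0000000010200003200000a0000000004200003400000a0000000008300003100000800000000000ffffff0000000000000040200002f0000090000000038200002d0000080000000000100003b00000c0001000007300002c0000070000000000100003500000b00000000000ffffff0000000000000040200002a0000080003000009300002e000009000000002c2000029000008000100000630000280000060000000000100003000000a00000000000ffffff0000000004000005300002200000500000000692000025000006000000005d20000240000070000000000100002b0000090000000021200002300000700000000000ffffff0000000004000003300001d00000300030000073000026000007000000005d200001f000004000000000010000270000080000000021200001e00000600000000000ffffff000000000000000010000210000070003000003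30000180000030000000051200001b0000050000000039200001a0000050000000019200001900000500000000000ffffff000000000400000230000130000020000000069200001500000400020000063000020000006000000004120000160000040000000021200001400000400000000000ffffff0000000000000000100001c000006000000000010000170000050002000002300000f000002000000002d20000110000030000000011200001000000300000000000ffffff000000000000000010000120000040000000038200000c0000020000000000100000e0000030001000001300000b0000010000000005200000d00000200000000000ffffff0000000000000020200000900000100000000182000008000001000000001020000070000010000000000100000a0000020000000000300000600000000000000000ffffff0000000000000003500000400000000000000025000003000000000000000150000020000000000000000500000100000000000000001000005000001)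
/-- the definitions -/
noncomputable def tP : TT := .leaf (nat_lit 0x580000004f000000440000003800000036000000300000002b00000025000000220000001600000015000000100000000e000000070000000000000000)
/-- the parents -/
noncomputable def tQ : TT := .leaf (nat_lit 0x580000004f000000440000003800000036000000300000002b00000025000000220000001600000015000000100000000e000000070000000000000000)
/-- the orbit tables -/
noncomputable def tO : TT := .leaf (nat_lit 0x0)
/-- the rule table -/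
noncomputable def rT : RT := .node (nat_lit 58) (.node (nat_lit 29) (.node (nat_lit 14) (.node (nat_lit 7) (.node (nat_lit 3) (.node (nat_lit 1) (.leaf (nat_lit 0) (nat_lit 0) [nat_lit 0]) (.node (nat_lit 2) (.leaf (nat_lit 0) (nat_lit 0) [nat_lit 0]) (.leaf (nat_lit 0) (nat_lit 0) [nat_lit 0]))) (.node (nat_lit 5) (.node (nat_lit 4) (.leaf (nat_lit 0) (nat_lit 0) [nat_lit 0]) (.leaf (nat_lit 4) (nat_lit 1) [nat_lit 0, nat_lit 1, nat_lit 0, nat_lit 1, nat_lit 0])) (.node (nat_lit 6) (.leaf (nat_lit 5) (nat_lit 0) [nat_lit 1, nat_lit 0, nat_lit 1, nat_lit 0, nat_lit 1]) (.leaf (nat_lit 4) (nat_lit 1) [nat_lit 0, nat_lit 1, nat_lit 0, nat_lit 1, nat_lit 0])))) (.node (nat_lit 10) (.node (nat_lit 8) (.leaf (nat_lit 5) (nat_lit 0) [nat_lit 1, nat_lit 0, nat_lit 1, nat_lit 0, nat_lit 1]) (.node (nat_lit 9) (.leaf (nat_lit 4) (nat_lit 1) [nat_lit 0, nat_lit 1, nat_lit 0, nat_lit 1, nat_lit 0]) (.leaf (nat_lit 5) (nat_lit 0) [nat_lit 1,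 nat_lit 0, nat_lit 1, nat_lit 0, nat_lit 1]))) (.node (nat_lit 12) (.node (nat_lit 11) (.leaf (nat_lit 5) (nat_lit 0) [nat_lit 1, nat_lit 0, nat_lit 1, nat_lit 0, nat_lit 1]) (.leaf (nat_lit 4) (nat_lit 1) [nat_lit 0, nat_lit 1, nat_lit 0, nat_lit 1, nat_lit 0])) (.node (nat_lit 13) (.leaf (nat_lit 5) (nat_lit 0) [nat_lit 1, nat_lit 0, nat_lit 1, nat_lit 0, nat_lit 1]) (.leaf (nat_lit 4) (nat_lit 1) [nat_lit 0, nat_lit 1, nat_lit 0, nat_lit 1, nat_lit 0]))))) (.node (nat_lit 21) (.node (nat_lit 17) (.node (nat_lit 15) (.leaf (nat_lit 5) (nat_lit 0) [nat_lit 1, nat_lit 0, nat_lit 1, nat_lit 0, nat_lit 1]) (.node (nat_lit 16) (.leaf (nat_lit 4) (nat_lit 1) [nat_lit 0, nat_lit 1, nat_lit 0, nat_lit 1, nat_lit 0]) (.leaf (nat_lit 16) (nat_lit 2) [nat_lit 0, nat_lit 2, nat_lit 0]))) (.node (nat_lit 19) (.node (nat_lit 18) (.leaf (nat_lit 17) (nat_lit 0) [nat_lit 2, nat_lit 0, nat_lit 2]) (.leaf (nat_lit 16) (nat_lit 2) [nat_lit 0, nat_lit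 2, nat_lit 0])) (.node (nat_lit 20) (.leaf (nat_lit 17) (nat_lit 0) [nat_lit 2, nat_lit 0, nat_lit 2]) (.leaf (nat_lit 17) (nat_lit 0) [nat_lit 2, nat_lit 0, nat_lit 2])))) (.node (nat_lit 25) (.node (nat_lit 23) (.node (nat_lit 22) (.leaf (nat_lit 16) (nat_lit 2) [nat_lit 0, nat_lit 2, nat_lit 0]) (.leaf (nat_lit 17) (nat_lit 0) [nat_lit 2, nat_lit 0, nat_lit 2])) (.node (nat_lit 24) (.leaf (nat_lit 16) (nat_lit 2) [nat_lit 0, nat_lit 2, nat_lit 0]) (.leaf (nat_lit 24) (nat_lit 3) [nat_lit 0, nat_lit 3, nat_lit 0]))) (.node (nat_lit 27) (.node (nat_lit 26) (.leaf (nat_lit 25) (nat_lit 0) [nat_lit 3, nat_lit 0, nat_lit 3]) (.leaf (nat_lit 24) (nat_lit 3) [nat_lit 0, nat_lit 3, nat_lit 0])) (.node (nat_lit 28) (.leaf (nat_lit 25) (nat_lit 0) [nat_lit 3, nat_lit 0, nat_lit 3]) (.leaf (nat_lit 25) (nat_lit 0) [nat_lit 3, nat_lit 0, nat_lit 3])))))) (.node (nat_lit 43) (.node (nat_lit 36) (.node (nat_lit 32) (.node (nat_lit 30) (.leaf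 (nat_lit 24) (nat_lit 3) [nat_lit 0, nat_lit 3, nat_lit 0]) (.node (nat_lit 31) (.leaf (nat_lit 25) (nat_lit 0) [nat_lit 3, nat_lit 0, nat_lit 3]) (.leaf (nat_lit 24) (nat_lit 3) [nat_lit 0, nat_lit 3, nat_lit 0]))) (.node (nat_lit 34) (.node (nat_lit 33) (.leaf (nat_lit 32) (nat_lit 4) [nat_lit 0, nat_lit 4, nat_lit 0]) (.leaf (nat_lit 33) (nat_lit 0) [nat_lit 4, nat_lit 0, nat_lit 4])) (.node (nat_lit 35) (.leaf (nat_lit 32) (nat_lit 4) [nat_lit 0, nat_lit 4, nat_lit 0]) (.leaf (nat_lit 33) (nat_lit 0) [nat_lit 4, nat_lit 0, nat_lit 4])))) (.node (nat_lit 39) (.node (nat_lit 37) (.leaf (nat_lit 33) (nat_lit 0) [nat_lit 4, nat_lit 0, nat_lit 4]) (.node (nat_lit 38) (.leaf (nat_lit 32) (nat_lit 4) [nat_lit 0, nat_lit 4, nat_lit 0]) (.leaf (nat_lit 33) (nat_lit 0) [nat_lit 4, nat_lit 0, nat_lit 4]))) (.node (nat_lit 41) (.node (nat_lit 40) (.leaf (nat_lit 32) (nat_lit 4) [nat_lit 0, nat_lit 4, nat_lit 0]) (.leaf (nat_lit 40) (nat_lit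 1) [nat_lit 1])) (.node (nat_lit 42) (.leaf (nat_lit 40) (nat_lit 1) [nat_lit 1]) (.leaf (nat_lit 40) (nat_lit 1) [nat_lit 1]))))) (.node (nat_lit 50) (.node (nat_lit 46) (.node (nat_lit 44) (.leaf (nat_lit 40) (nat_lit 1) [nat_lit 1]) (.node (nat_lit 45) (.leaf (nat_lit 44) (nat_lit 2) [nat_lit 1, nat_lit 2, nat_lit 1, nat_lit 2, nat_lit 1]) (.leaf (nat_lit 45) (nat_lit 1) [nat_lit 2, nat_lit 1, nat_lit 2, nat_lit 1, nat_lit 2]))) (.node (nat_lit 48) (.node (nat_lit 47) (.leaf (nat_lit 44) (nat_lit 2) [nat_lit 1, nat_lit 2, nat_lit 1, nat_lit 2, nat_lit 1]) (.leaf (nat_lit 45) (nat_lit 1) [nat_lit 2, nat_lit 1, nat_lit 2, nat_lit 1, nat_lit 2])) (.node (nat_lit 49) (.leaf (nat_lit 44) (nat_lit 2) [nat_lit 1, nat_lit 2, nat_lit 1, nat_lit 2, nat_lit 1]) (.leaf (nat_lit 45) (nat_lit 1) [nat_lit 2, nat_lit 1, nat_lit 2, nat_lit 1, nat_lit 2])))) (.node (nat_lit 54) (.node (nat_lit 52) (.node (nat_lit 51) (.leaf (nat_lit 45) (nat_lit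 1) [nat_lit 2, nat_lit 1, nat_lit 2, nat_lit 1, nat_lit 2]) (.leaf (nat_lit 44) (nat_lit 2) [nat_lit 1, nat_lit 2, nat_lit 1, nat_lit 2, nat_lit 1])) (.node (nat_lit 53) (.leaf (nat_lit 45) (nat_lit 1) [nat_lit 2, nat_lit 1, nat_lit 2, nat_lit 1, nat_lit 2]) (.leaf (nat_lit 44) (nat_lit 2) [nat_lit 1, nat_lit 2, nat_lit 1, nat_lit 2, nat_lit 1]))) (.node (nat_lit 56) (.node (nat_lit 55) (.leaf (nat_lit 45) (nat_lit 1) [nat_lit 2, nat_lit 1, nat_lit 2, nat_lit 1, nat_lit 2]) (.leaf (nat_lit 44) (nat_lit 2) [nat_lit 1, nat_lit 2, nat_lit 1, nat_lit 2, nat_lit 1])) (.node (nat_lit 57) (.leaf (nat_lit 56) (nat_lit 3) [nat_lit 1, nat_lit 3, nat_lit 1]) (.leaf (nat_lit 57) (nat_lit 1) [nat_lit 3, nat_lit 1, nat_lit 3]))))))) (.node (nat_lit 87) (.node (nat_lit 72) (.node (nat_lit 65) (.node (nat_lit 61) (.node (nat_lit 59) (.leaf (nat_lit 56) (nat_lit 3) [nat_lit 1, nat_lit 3, nat_lit 1]) (.node (nat_lit 60) (.leaf (nat_lit 57) (nat_lit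 1) [nat_lit 3, nat_lit 1, nat_lit 3]) (.leaf (nat_lit 57) (nat_lit 1) [nat_lit 3, nat_lit 1, nat_lit 3]))) (.node (nat_lit 63) (.node (nat_lit 62) (.leaf (nat_lit 56) (nat_lit 3) [nat_lit 1, nat_lit 3, nat_lit 1]) (.leaf (nat_lit 57) (nat_lit 1) [nat_lit 3, nat_lit 1, nat_lit 3])) (.node (nat_lit 64) (.leaf (nat_lit 56) (nat_lit 3) [nat_lit 1, nat_lit 3, nat_lit 1]) (.leaf (nat_lit 64) (nat_lit 4) [nat_lit 1, nat_lit 4, nat_lit 1, nat_lit 4, nat_lit 1])))) (.node (nat_lit 68) (.node (nat_lit 66) (.leaf (nat_lit 65) (nat_lit 1) [nat_lit 4, nat_lit 1, nat_lit 4, nat_lit 1, nat_lit 4]) (.node (nat_lit 67) (.leaf (nat_lit 64) (nat_lit 4) [nat_lit 1, nat_lit 4, nat_lit 1, nat_lit 4, nat_lit 1]) (.leaf (nat_lit 65) (nat_lit 1) [nat_lit 4, nat_lit 1, nat_lit 4, nat_lit 1, nat_lit 4]))) (.node (nat_lit 70) (.node (nat_lit 69) (.leaf (nat_lit 64) (nat_lit 4) [nat_lit 1, nat_lit 4, nat_lit 1, nat_lit 4, nat_lit 1]) (.leaf (nat_lit 65) (nat_lit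 1) [nat_lit 4, nat_lit 1, nat_lit 4, nat_lit 1, nat_lit 4])) (.node (nat_lit 71) (.leaf (nat_lit 65) (nat_lit 1) [nat_lit 4, nat_lit 1, nat_lit 4, nat_lit 1, nat_lit 4]) (.leaf (nat_lit 64) (nat_lit 4) [nat_lit 1, nat_lit 4, nat_lit 1, nat_lit 4, nat_lit 1]))))) (.node (nat_lit 79) (.node (nat_lit 75) (.node (nat_lit 73) (.leaf (nat_lit 65) (nat_lit 1) [nat_lit 4, nat_lit 1, nat_lit 4, nat_lit 1, nat_lit 4]) (.node (nat_lit 74) (.leaf (nat_lit 64) (nat_lit 4) [nat_lit 1, nat_lit 4, nat_lit 1, nat_lit 4, nat_lit 1]) (.leaf (nat_lit 65) (nat_lit 1) [nat_lit 4, nat_lit 1, nat_lit 4, nat_lit 1, nat_lit 4]))) (.node (nat_lit 77) (.node (nat_lit 76) (.leaf (nat_lit 64) (nat_lit 4) [nat_lit 1, nat_lit 4, nat_lit 1, nat_lit 4, nat_lit 1]) (.leaf (nat_lit 76) (nat_lit 2) [nat_lit 2])) (.node (nat_lit 78) (.leaf (nat_lit 76) (nat_lit 2) [nat_lit 2]) (.leaf (nat_lit 76) (nat_lit 2) [nat_lit 2])))) (.node (nat_lit 83) (.node (nat_lit 81) (.node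 (nat_lit 80) (.leaf (nat_lit 76) (nat_lit 2) [nat_lit 2]) (.leaf (nat_lit 80) (nat_lit 3) [nat_lit 2, nat_lit 3, nat_lit 2, nat_lit 3, nat_lit 2])) (.node (nat_lit 82) (.leaf (nat_lit 81) (nat_lit 2) [nat_lit 3, nat_lit 2, nat_lit 3, nat_lit 2, nat_lit 3]) (.leaf (nat_lit 80) (nat_lit 3) [nat_lit 2, nat_lit 3, nat_lit 2, nat_lit 3, nat_lit 2]))) (.node (nat_lit 85) (.node (nat_lit 84) (.leaf (nat_lit 81) (nat_lit 2) [nat_lit 3, nat_lit 2, nat_lit 3, nat_lit 2, nat_lit 3]) (.leaf (nat_lit 80) (nat_lit 3) [nat_lit 2, nat_lit 3, nat_lit 2, nat_lit 3, nat_lit 2])) (.node (nat_lit 86) (.leaf (nat_lit 81) (nat_lit 2) [nat_lit 3, nat_lit 2, nat_lit 3, nat_lit 2, nat_lit 3]) (.leaf (nat_lit 81) (nat_lit 2) [nat_lit 3, nat_lit 2, nat_lit 3, nat_lit 2, nat_lit 3])))))) (.node (nat_lit 101) (.node (nat_lit 94) (.node (nat_lit 90) (.node (nat_lit 88) (.leaf (nat_lit 80) (nat_lit 3) [nat_lit 2, nat_lit 3, nat_lit 2, nat_lit 3, nat_lit 2]) (.node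 (nat_lit 89) (.leaf (nat_lit 81) (nat_lit 2) [nat_lit 3, nat_lit 2, nat_lit 3, nat_lit 2, nat_lit 3]) (.leaf (nat_lit 80) (nat_lit 3) [nat_lit 2, nat_lit 3, nat_lit 2, nat_lit 3, nat_lit 2]))) (.node (nat_lit 92) (.node (nat_lit 91) (.leaf (nat_lit 81) (nat_lit 2) [nat_lit 3, nat_lit 2, nat_lit 3, nat_lit 2, nat_lit 3]) (.leaf (nat_lit 80) (nat_lit 3) [nat_lit 2, nat_lit 3, nat_lit 2, nat_lit 3, nat_lit 2])) (.node (nat_lit 93) (.leaf (nat_lit 92) (nat_lit 4) [nat_lit 2, nat_lit 4, nat_lit 2]) (.leaf (nat_lit 93) (nat_lit 2) [nat_lit 4, nat_lit 2, nat_lit 4])))) (.node (nat_lit 97) (.node (nat_lit 95) (.leaf (nat_lit 92) (nat_lit 4) [nat_lit 2, nat_lit 4, nat_lit 2]) (.node (nat_lit 96) (.leaf (nat_lit 93) (nat_lit 2) [nat_lit 4, nat_lit 2, nat_lit 4]) (.leaf (nat_lit 93) (nat_lit 2) [nat_lit 4, nat_lit 2, nat_lit 4]))) (.node (nat_lit 99) (.node (nat_lit 98) (.leaf (nat_lit 92) (nat_lit 4) [nat_lit 2, nat_lit 4, nat_lit 2]) (.leaf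 (nat_lit 93) (nat_lit 2) [nat_lit 4, nat_lit 2, nat_lit 4])) (.node (nat_lit 100) (.leaf (nat_lit 92) (nat_lit 4) [nat_lit 2, nat_lit 4, nat_lit 2]) (.leaf (nat_lit 100) (nat_lit 3) [nat_lit 3]))))) (.node (nat_lit 108) (.node (nat_lit 104) (.node (nat_lit 102) (.leaf (nat_lit 100) (nat_lit 3) [nat_lit 3]) (.node (nat_lit 103) (.leaf (nat_lit 100) (nat_lit 3) [nat_lit 3]) (.leaf (nat_lit 100) (nat_lit 3) [nat_lit 3]))) (.node (nat_lit 106) (.node (nat_lit 105) (.leaf (nat_lit 104) (nat_lit 4) [nat_lit 3, nat_lit 4, nat_lit 3]) (.leaf (nat_lit 105) (nat_lit 3) [nat_lit 4, nat_lit 3, nat_lit 4])) (.node (nat_lit 107) (.leaf (nat_lit 104) (nat_lit 4) [nat_lit 3, nat_lit 4, nat_lit 3]) (.leaf (nat_lit 105) (nat_lit 3) [nat_lit 4, nat_lit 3, nat_lit 4])))) (.node (nat_lit 112) (.node (nat_lit 110) (.node (nat_lit 109) (.leaf (nat_lit 105) (nat_lit 3) [nat_lit 4, nat_lit 3, nat_lit 4]) (.leaf (nat_lit 104) (nat_lit 4) [nat_lit 3, nat_lit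 4, nat_lit 3])) (.node (nat_lit 111) (.leaf (nat_lit 105) (nat_lit 3) [nat_lit 4, nat_lit 3, nat_lit 4]) (.leaf (nat_lit 104) (nat_lit 4) [nat_lit 3, nat_lit 4, nat_lit 3]))) (.node (nat_lit 114) (.node (nat_lit 113) (.leaf (nat_lit 112) (nat_lit 4) [nat_lit 4]) (.leaf (nat_lit 112) (nat_lit 4) [nat_lit 4])) (.node (nat_lit 115) (.leaf (nat_lit 112) (nat_lit 4) [nat_lit 4]) (.leaf (nat_lit 112) (nat_lit 4) [nat_lit 4])))))))
/-- the relators -/
def relsL : List (List ℕ) := [[nat_lit 0, nat_lit 0],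
  [nat_lit 1, nat_lit 0, nat_lit 1, nat_lit 0, nat_lit 1, nat_lit 0],
  [nat_lit 2, nat_lit 0, nat_lit 2, nat_lit 0],
  [nat_lit 3, nat_lit 0, nat_lit 3, nat_lit 0],
  [nat_lit 4, nat_lit 0, nat_lit 4, nat_lit 0],
  [nat_lit 1, nat_lit 1],
  [nat_lit 2, nat_lit 1, nat_lit 2, nat_lit 1, nat_lit 2, nat_lit 1],
  [nat_lit 3, nat_lit 1, nat_lit 3, nat_lit 1],
  [nat_lit 4, nat_lit 1, nat_lit 4, nat_lit 1, nat_lit 4, nat_lit 1],
  [nat_lit 2, nat_lit 2],
  [nat_lit 3, nat_lit 2, nat_lit 3, nat_lit 2, nat_lit 3, nat_lit 2],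
  [nat_lit 4, nat_lit 2, nat_lit 4, nat_lit 2],
  [nat_lit 3, nat_lit 3],
  [nat_lit 4, nat_lit 3, nat_lit 4, nat_lit 3],
  [nat_lit 4, nat_lit 4]]
/-- the subgroup words -/
def hwL : List (List ℕ) := [[nat_lit 1],
  [nat_lit 2],
  [nat_lit 3],
  [nat_lit 4]]

/-- the certificate -/
noncomputable def cfg : Cfg :=
  mkCfg (fun k => TT.fld tE (nat_lit 92) (nat_lit 1023) (nat_lit 4951760157141521099596496895) k)
    (nat_lit 96) (nat_lit 16) (nat_lit 16) (nat_lit 5) (nat_lit 6)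
    (fun x => x)
    (fun k => TT.fld tP (nat_lit 32) (nat_lit 1023) (nat_lit 4294967295) k)
    (fun k => TT.fld tQ (nat_lit 32) (nat_lit 1023) (nat_lit 4294967295) k)
    rT hwL

/-- the orbit certificate -/
noncomputable def oc : OCert where
  oid := fun j => Nat.land (TT.fld tO (nat_lit 64) (nat_lit 1023) (nat_lit 18446744073709551615) j) (nat_lit 65535)
  prnt := fun j => Nat.land (Nat.shiftRight (TT.fld tO (nat_lit 64) (nat_lit 1023) (nat_lit 18446744073709551615) j) (nat_lit 16)) (nat_lit 16777215)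
  pw := fun j => Nat.land (Nat.shiftRight (TT.fld tO (nat_lit 64) (nat_lit 1023) (nat_lit 18446744073709551615) j) (nat_lit 40)) (nat_lit 255)
  rk := fun j => Nat.shiftRight (TT.fld tO (nat_lit 64) (nat_lit 1023) (nat_lit 18446744073709551615) j) (nat_lit 48)
  rep := fun d => List.getD [] d 0

/-- the relators -/
def rsL : List (FreeGroup (Fin 5)) := Cfsg.Agent.Lib.Fischer.M23.Mult.Words.relsCox Cfsg.Agent.Lib.Fischer.M23.Mult.Words.lD5

/-- the group side of the certificate -/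
def D : Data (Fin 5) where
  lets := [(0,true),(1,true),(2,true),(3,true),(4,true)]
  rs := rsL
  Hs := [(FreeGroup.of (1 : Fin 5)), (FreeGroup.of (2 : Fin 5)), (FreeGroup.of (3 : Fin 5)), (FreeGroup.of (4 : Fin 5))]
  rels := relsL
  hw := hwL

end Cfsg.Agent.Lib.Compute.TC.MWD5
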